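import Mathlib
import Cfsg.Agent.Lib.LieModel.Fields
import Cfsg.Agent.Lib.LieModel.Sp62.P.Main
import Cfsg.Agent.Lib.Symp.Order

/-! `Cfsg.PSp 3 F` as a permutation group on 63 points (generated) -/

set_option autoImplicit false
set_option maxRecDepth 100000
set_option Elab.async false

namespace CfsgLib.LieModel.Sp62

open CfsgLib.Comput CfsgLib.Classical CfsgLib.Recog Matrix

/-- the coding of vectors -/
abbrev C : Cd (ZMod 2) (Fin 3 ⊕ Fin 3) := cd2 6 (sumIdx 3 3)

theorem good : C.Good := cd2_good ⟨by decide +kernel, by decide +kernel⟩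

/-- the table of points -/
noncomputable def T : ℕ := 0x3ffbdf3beb9e37db5d33cb1c2fbadb2baa9a279a59238a181f79d71b69961759551349140f38d30b289207185103081

theorem inj : ProjInj 63 (C.pt T) := Cd.projInj good (allLt_sound (by decide +kernel))

/-- the scalars -/
noncomputable def LS : List (List ℕ) := [[0x1000000000000000000000001, 0x1000000000000000000010000, 0x1000000000000000100000000, 0x1000000000001000000000000, 0x1000000010000000000000000, 0x1000100000000000000000000]]

theorem scal : C.Scal LS :=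
  Cd.Scal.cons (c := C.fK 1) ((Cd.codes_of_entries good (M := [0x1, 0x2, 0x4, 0x8, 0x10, 0x20]) (by decide +kernel)).cols (by decide +kernel)) (
  Cd.Scal.nil)

noncomputable def A0 : Matrix (Fin 3 ⊕ Fin 3) (Fin 3 ⊕ Fin 3) (ZMod 2) := C.mat sumIx [0x1, 0x26, 0x31, 0x2c, 0x21, 0x2]
noncomputable def g0 : symplecticGroup (Fin 3) (ZMod 2) := ⟨A0, SymplecticGroup.mem_iff.2 (by decide +kernel)⟩

theorem c0 : Compat (C.pt T) A0 (permG 63 P.W 0) :=
  Cd.compat good (OK_nth P.W_ok 0) (L := [0x1000000000000000000000001, 0x3000100000000000100010000, 0x3000100010000000000000001, 0x3000100000001000100000000, 0x2000100000000000000000001, 0x1000000000000000000010000])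
    ((Cd.codes_of_entries good (M := [0x1, 0x26, 0x31, 0x2c, 0x21, 0x2]) (by decide +kernel)).cols (by decide +kernel)) scal (allLt_sound (by decide +kernel))

noncomputable def A1 : Matrix (Fin 3 ⊕ Fin 3) (Fin 3 ⊕ Fin 3) (ZMod 2) := C.mat sumIx [0x2d, 0x24, 0x2f, 0x3e, 0xe, 0x19]
noncomputable def g1 : symplecticGroup (Fin 3) (ZMod 2) := ⟨A1, SymplecticGroup.mem_iff.2 (by decide +kernel)⟩

theorem c1 : Compat (C.pt T) A1 (permG 63 P.W 2) :=
  Cd.compat good (OK_nth P.W_ok 2) (L := [0x4000100000001000100000001, 0x2000100000000000100000000, 0x5000100000001000100010001, 0x5000100010001000100010000, 0x3000000000001000100010000, 0x3000000010001000000000001])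
    ((Cd.codes_of_entries good (M := [0x2d, 0x24, 0x2f, 0x3e, 0xe, 0x19]) (by decide +kernel)).cols (by decide +kernel)) scal (allLt_sound (by decide +kernel))

/-- the generators -/
noncomputable def g (m : ℕ) : symplecticGroup (Fin 3) (ZMod 2) :=
  if m = 0 then g0 else g1

theorem hyp : ∀ m ∈ [0, 2], m < 255 ∧ Compat (C.pt T) ((symplecticGroup (Fin 3) (ZMod 2)).subtype (g m)) (permG 63 P.W m) := by
  simp only [List.forall_mem_cons]
  exact ⟨⟨by norm_num, c0⟩, ⟨by norm_num, c1⟩, List.forall_mem_nil _⟩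

/-- the permutation group -/
noncomputable abbrev PG : Subgroup (Equiv.Perm (Fin 63)) := cl (permG 63 P.W) P.top

theorem card_PG : Nat.card PG = 1451520 := P.card_perm

theorem card_G : Nat.card (Cfsg.PSp 3 (ZMod 2)) = 1451520 := by
  have := CfsgLib.Symp.card_PSp (F := ZMod 2) (m := 3) (by norm_num)
  simp only [Finset.prod_range_succ, Finset.prod_range_zero, ZMod.card] at this
  norm_num at this
  omega

theorem center_PG : Subgroup.center PG = ⊥ :=
  center_eq_bot_of_chk P.W_ok (by norm_num) (P.inA_top P.E) (hs := P.L0.hs) (a := 0) (r := 7) (by decide +kernel)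

theorem exists_iso : ∃ e : (Cfsg.PSp 3 (ZMod 2)) ≃* PG, ∀ x ∈ cl (fun m => (g m, permG 63 P.W m)) P.top,
    (e (QuotientGroup.mk x.1) : Equiv.Perm (Fin 63)) = x.2 := by
  have : Finite (Cfsg.PSp 3 (ZMod 2)) := Nat.finite_of_card_ne_zero (by rw [card_G]; norm_num)
  exact link_quot ((symplecticGroup (Fin 3) (ZMod 2)).subtype) inj hyp rfl center_PG (card_G.trans card_PG.symm).le

theorem iso {F : Type*} [Field F] [Fintype F] (hF : Fintype.card F = 2) :
    Nonempty ((Cfsg.PSp 3 F) ≃* PG) := by
  obtain ⟨f, -⟩ := exists_iso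
  let e : F ≃+* (ZMod 2) := FiniteField.ringEquivOfCardEq (hF.trans (ZMod.card 2).symm)
  exact ⟨(centerQuotEquiv (spMapEquiv e)).trans f⟩

end CfsgLib.LieModel.Sp62
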